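import Groth.Agent.Pi1.H414.TameQuot
import Groth.Agent.Pi1.H415.Glue
import Groth.Agent.Pi1.H390.KumSch

/-!
# S3690 and S3691 from S3689 (`Abh`)
-/

set_option autoImplicit false
open CategoryTheory CategoryTheory.Limits AlgebraicGeometry
universe u

namespace Groth.Agent.Pi1.H414.S3690_of

open Groth.Agent.Pi1.H415 Groth.Agent.Pi1.H415.Stmts Groth.Agent.Pi1.H415.SplitBC
  Groth.Agent.Pi1.H415.Glue Groth.Agent.Pi1.H415.KumBC Groth.Agent.Pi1.H415.Local

/-- The relative Abhyankar lemma in pointwise split form (tameness over maximal points only). -/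
theorem exists_split_max (hA : Abh.{u}) {X S : Scheme.{u}} (f : X ⟶ S) {r : ℕ} (φ : Fin r → Γ(X, ⊤))
    (hD : SGA1t.IsRelSNC f φ) (x : X) (hx : Nonempty (SGA1t.vanishingAt φ x))
    (R : Type u) [CommRing R] [IsLocalRing R] [Algebra (X.presheaf.stalk x) R]
    [IsLocalHom (algebraMap (X.presheaf.stalk x) R)] [Hensel.IsStrictHenselization (X.presheaf.stalk x) R]
    (V : FEt.Cat (cmpl φ x R : Scheme.{u}))
    (htame : SGA1t.IsRelTameOver (Hens2.specOf X x R ≫ f) (fun i => (Hens2.specOf X x R).appTop (φ i)) V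
      {s : S | ∀ s' : S, s' ⤳ s → s' = s}) :
    ∃ n : SGA1t.vanishingAt φ x → ℕ, (∀ i, 1 ≤ n i) ∧ (∀ i, IsUnit ((n i : ℕ) : X.residueField x)) ∧
      PtSplit V.hom (str R (eqs φ x R) n ∣_ cmpl φ x R) := by
  obtain ⟨n, hn, hnu, W, ⟨e⟩⟩ := hA f φ hD x hx R V htame
  have : HenselianLocalRing R := Hensel.IsStrictHenselization.henselian (X.presheaf.stalk x)
  have : IsSepClosed (IsLocalRing.ResidueField R) :=
    (Hensel.IsStrictHenselization.isSepClosure (R := X.presheaf.stalk x) (S := R)).1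
  have : HenselianLocalRing (SGA1t.kummer R (eqs φ x R) n) :=
    KumSH.henselian (eqs φ x R) n (eqs_mem φ x R) hn
  have : IsSepClosed (IsLocalRing.ResidueField (SGA1t.kummer R (eqs φ x R) n)) :=
    KumSH.isSepClosed_residueField (eqs φ x R) n (eqs_mem φ x R) hn
  exact ⟨n, hn, hnu, SHSplit.ptSplit_of_extends (B := SGA1t.kummer R (eqs φ x R) n)
    (str R (eqs φ x R) n ⁻¹ᵁ cmpl φ x R).ι (str R (eqs φ x R) n ∣_ cmpl φ x R) V W e⟩

/-- A cover which is pointwise split by a Kummer cover (exponents prime to the residue characteristic) is relatively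
tame. -/
theorem isRelTame_of_ptSplit {X S : Scheme.{u}} (f : X ⟶ S) {r : ℕ} (φ : Fin r → Γ(X, ⊤)) (x : X)
    (R : Type u) [CommRing R] [IsLocalRing R] [Algebra (X.presheaf.stalk x) R]
    [IsLocalHom (algebraMap (X.presheaf.stalk x) R)]
    (V : FEt.Cat (cmpl φ x R : Scheme.{u})) (n : SGA1t.vanishingAt φ x → ℕ) (hn : ∀ i, 1 ≤ n i)
    (hnu : ∀ i, IsUnit ((n i : ℕ) : X.residueField x))
    (hs : PtSplit V.hom (str R (eqs φ x R) n ∣_ cmpl φ x R)) :
    SGA1t.IsRelTame (Hens2.specOf X x R ≫ f) (fun i => (Hens2.specOf X x R).appTop (φ i)) V := by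
  have hnR : ∀ i, IsUnit ((n i : ℕ) : R) := fun i => isUnit_natCast _ R _ (hnu i)
  have hF : IsFinite (str R (eqs φ x R) n ∣_ cmpl φ x R) := isFinite_restrict (eqs φ x R) n hn _
  have hE : Etale (str R (eqs φ x R) n ∣_ cmpl φ x R) :=
    KumBC.etale_restrict (eqs φ x R) n hn hnR _ (fun i => compl_specOf_le x R φ i.1)
  have hSu : Surjective (str R (eqs φ x R) n ∣_ cmpl φ x R) :=
    surjective_restrict (eqs φ x R) n hn _
  refine TameQuot.isRelTame_of_dominated _ _ V fun p => ?_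
  obtain ⟨s, hs1, hs2⟩ := exists_mem_range V.hom (str R (eqs φ x R) n ∣_ cmpl φ x R) hs p
  exact ⟨MorphismProperty.Over.mk ⊤ (str R (eqs φ x R) n ∣_ cmpl φ x R) ⟨hF, hE⟩,
    MorphismProperty.Over.homMk s hs1, hs2,
    H390.KumSch.isRelTame (eqs φ x R) n hn hnR _ (fun i => compl_specOf_le x R φ i.1) _ hF hE⟩

/-- S3690 from S3689. -/
theorem main (hA : Abh.{u}) {X S : Scheme.{u}} (f : X ⟶ S) {r : ℕ} (φ : Fin r → Γ(X, ⊤))
    (hD : SGA1t.IsRelSNC f φ) (x : X) (hx : Nonempty (SGA1t.vanishingAt φ x))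
    (R : Type u) [CommRing R] [IsLocalRing R] [Algebra (X.presheaf.stalk x) R]
    [IsLocalHom (algebraMap (X.presheaf.stalk x) R)] [Hensel.IsStrictHenselization (X.presheaf.stalk x) R]
    (V₁ : FEt.Cat (SGA1t.compl (fun i => (Hens2.specOf X x R).appTop (φ i)) : Scheme.{u}))
    (htame : SGA1t.IsRelTameOver (Hens2.specOf X x R ≫ f) (fun i => (Hens2.specOf X x R).appTop (φ i)) V₁
      {s : S | ∀ s' : S, s' ⤳ s → s' = s}) :
    SGA1t.IsRelTame (Hens2.specOf X x R ≫ f) (fun i => (Hens2.specOf X x R).appTop (φ i)) V₁ := by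
  obtain ⟨n, hn, hnu, hs⟩ := exists_split_max hA f φ hD x hx R V₁ htame
  exact isRelTame_of_ptSplit f φ x R V₁ n hn hnu hs

/-- S3691 from S3689. -/
theorem main' (hA : Abh.{u}) {X S : Scheme.{u}} (f : X ⟶ S) {r : ℕ} (φ : Fin r → Γ(X, ⊤))
    (hD : SGA1t.IsRelSNC f φ) (x : X) (hx : Nonempty (SGA1t.vanishingAt φ x))
    (R : Type u) [CommRing R] [IsLocalRing R] [Algebra (X.presheaf.stalk x) R]
    [IsLocalHom (algebraMap (X.presheaf.stalk x) R)] [Hensel.IsStrictHenselization (X.presheaf.stalk x) R]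
    (V₁ : FEt.Cat (SGA1t.compl (fun i => (Hens2.specOf X x R).appTop (φ i)) : Scheme.{u})) [ConnectedSpace V₁.left]
    (htame : SGA1t.IsRelTame (Hens2.specOf X x R ≫ f) (fun i => (Hens2.specOf X x R).appTop (φ i)) V₁) :
    ∃ n : SGA1t.vanishingAt φ x → ℕ, (∀ i, 1 ≤ n i) ∧ (∀ i, IsUnit ((n i : ℕ) : X.residueField x)) ∧
      letI a : SGA1t.vanishingAt φ x → R := fun i =>
        algebraMap (X.presheaf.stalk x) R ((X.presheaf.germ ⊤ x trivial).hom (φ i.1))
      letI π : Spec (CommRingCat.of (SGA1t.kummer R a n)) ⟶ Spec (CommRingCat.of R) :=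
        Spec.map (CommRingCat.ofHom (algebraMap R (SGA1t.kummer R a n)))
      letI U₁ := SGA1t.compl (fun i => (Hens2.specOf X x R).appTop (φ i))
      ∃ ψ : (↑(π ⁻¹ᵁ U₁) : Scheme.{u}) ⟶ V₁.left, ψ ≫ V₁.hom = π ∣_ U₁ ∧ Surjective ψ := by
  obtain ⟨n, hn, hnu, hs⟩ := exists_split f φ hD x R hA hx V₁ htame
  refine ⟨n, hn, hnu, ?_⟩
  have hnR : ∀ i, IsUnit ((n i : ℕ) : R) := fun i => isUnit_natCast _ R _ (hnu i)
  have hF : IsFinite (str R (eqs φ x R) n ∣_ cmpl φ x R) := isFinite_restrict (eqs φ x R) n hn _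
  have hE : Etale (str R (eqs φ x R) n ∣_ cmpl φ x R) :=
    KumBC.etale_restrict (eqs φ x R) n hn hnR _ (fun i => compl_specOf_le x R φ i.1)
  have hSu : Surjective (str R (eqs φ x R) n ∣_ cmpl φ x R) :=
    surjective_restrict (eqs φ x R) n hn _
  have hFV : IsFinite V₁.hom := V₁.prop.1
  have hEV : Etale V₁.hom := V₁.prop.2
  obtain ⟨s, hs1, hs2⟩ := exists_mem_range V₁.hom (str R (eqs φ x R) n ∣_ cmpl φ x R) hs
    (Classical.arbitrary V₁.left)
  refine ⟨s, hs1, ⟨?_⟩⟩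
  have hcl := isClopen_range V₁.hom (str R (eqs φ x R) n ∣_ cmpl φ x R) s hs1
  rw [← Set.range_eq_univ]
  have hc : PreconnectedSpace V₁.left := inferInstance
  exact @IsClopen.eq_univ _ _ hc _ hcl ⟨_, hs2⟩

end Groth.Agent.Pi1.H414.S3690_of
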