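import Groth.Agent.Pi1.H414.Gal
import Groth.Agent.Pi1.H414.TameQuot
import Groth.Agent.Pi1.H415.Glue
import Groth.Agent.Pi1.H390.KumSch

/-!
# S3714 from S3689 (`Abh`) and S3692 (`KumGal`)
-/

set_option autoImplicit false
open CategoryTheory CategoryTheory.Limits AlgebraicGeometry
universe u

namespace Groth.Agent.Pi1.H414.S3714_of

open Groth.Agent.Pi1.H415 Groth.Agent.Pi1.H415.Stmts Groth.Agent.Pi1.H415.SplitBC
  Groth.Agent.Pi1.H415.Glue Groth.Agent.Pi1.H415.KumBC Groth.Agent.Pi1.H415.Local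
open Groth.Agent.Pi1.H403.RelSNCBase (vanEquiv isRelSNC_baseChange)

/-- Abstract form of the conclusion. -/
theorem of_cover {U U' : Scheme.{u}} (m : U' ⟶ U) {G : Type u} [Group G] [Finite G]
    (K : FEt.Cat U) (θ : G →* Aut K) (hK : SGA1t.IsPrincipal G K θ)
    {K' : Scheme.{u}} (k' : K' ⟶ U') [ConnectedSpace K'] (l : K' ⟶ K.left)
    (hl : IsPullback l k' K.hom m)
    {C : Type} [Group C] [Finite C] (P' : FEt.Cat U') (ρ' : C →* Aut P')
    (hP' : SGA1t.IsPrincipal C P' ρ') (hs : PtSplit P'.hom k') :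
    ∃ (P : FEt.Cat U) (ρ : C →* Aut P), SGA1t.IsPrincipal C P ρ ∧
      (∀ p : P.left, ∃ q : K ⟶ P, p ∈ Set.range q.left.base) ∧
      ∃ e : (FEt.restrict m).obj P ≅ P',
        ∀ g : C, (FEt.restrict m).map (ρ g).hom ≫ e.hom = e.hom ≫ (ρ' g).hom := by
  have hsurj : Surjective k' := by
    have : Surjective K.hom := ⟨hK.1⟩
    exact MorphismProperty.of_isPullback hl this
  -- a section of `P'` over `K'`
  obtain ⟨s, hs1⟩ : ∃ s : K' ⟶ P'.left, s ≫ P'.hom = k' := by
    let y : K' := Classical.arbitrary _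
    obtain ⟨t, ht⟩ := hP'.1 (k' y)
    obtain ⟨s, hs1, -⟩ := exists_mem_range P'.hom k' hs t
    exact ⟨s, hs1⟩
  have hiso : ConnectedSpace ((FEt.restrict m).obj K).left :=
    hl.isoPullback.hom.homeomorph.surjective.connectedSpace hl.isoPullback.hom.homeomorph.continuous
  let s' : (FEt.restrict m).obj K ⟶ P' :=
    MorphismProperty.Over.homMk (hl.isoPullback.inv ≫ s) (by
      rw [Category.assoc, hs1]
      exact hl.isoPullback_inv_snd)
  exact Chi.exists_descent m K θ hK P' ρ' hP' s'

/-- The trivial cover. -/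
noncomputable def triv (U : Scheme.{u}) : FEt.Cat U :=
  MorphismProperty.Over.mk ⊤ (𝟙 U) (FEt.prop.id_mem _)

theorem isPrincipal_triv (U : Scheme.{u}) :
    SGA1t.IsPrincipal PUnit.{u + 1} (triv U) (1 : PUnit.{u + 1} →* Aut (triv U)) := by
  refine ⟨fun x => ⟨x, rfl⟩, ?_⟩
  intro Ω _ _ ξ s t
  have h1 : s.1 = ξ := (Category.comp_id s.1).symm.trans s.2
  have h2 : t.1 = ξ := (Category.comp_id t.1).symm.trans t.2
  refine ⟨PUnit.unit, ?_, fun _ _ => rfl⟩
  apply Subtype.ext
  exact (Category.comp_id _).trans (h1.trans h2.symm)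

theorem isPullback_triv {U U' : Scheme.{u}} (m : U' ⟶ U) :
    IsPullback m (𝟙 U') (triv U).hom m := by
  have h : IsPullback m (𝟙 U') (𝟙 U) m :=
    IsPullback.of_vert_isIso ⟨(Category.comp_id m).trans (Category.id_comp m).symm⟩
  exact h

/-- The target of a surjective morphism from a connected scheme is connected. -/
theorem connected_target {X Y : Scheme.{u}} (f : Y ⟶ X) (hY : ConnectedSpace Y) (h : Surjective f) :
    ConnectedSpace X :=
  h.surj.connectedSpace f.continuous

theorem isRelTame_triv {X S : Scheme.{u}} (f : X ⟶ S) {r : ℕ} (φ : Fin r → Γ(X, ⊤)) :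
    SGA1t.IsRelTame f φ (triv (SGA1t.compl φ : Scheme.{u})) := by
  refine H390.SchTame.isRelTame f φ _ (ι := Empty) (fun i => i.elim) (fun i => i.elim)
    (fun i => i.elim) (fun i => i.elim) (fun i => i.elim) (fun i => i.elim) (fun i => i.elim) ?_
  intro v
  change Subfield.closure (Set.range ((𝟙 _ ≫ (SGA1t.compl φ).ι).residueFieldMap v).hom ∪ _) = ⊤
  rw [Category.id_comp]
  have hsurj : Function.Surjective ((SGA1t.compl φ).ι.residueFieldMap v).hom :=
    (ConcreteCategory.bijective_of_isIso ((SGA1t.compl φ).ι.residueFieldMap v)).2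
  rw [eq_top_iff]
  rintro z -
  obtain ⟨z, rfl⟩ := hsurj z
  exact Subfield.subset_closure (Or.inl ⟨z, rfl⟩)

theorem main (hA : Abh.{u}) (hK : KumGal.{u}) {X S S' : Scheme.{u}} (f : X ⟶ S) (h : S' ⟶ S) {r : ℕ} (φ : Fin r → Γ(X, ⊤))
    (hD : SGA1t.IsRelSNC f φ) (x' : ↥(pullback f h))
    (R : Type u) [CommRing R] [IsLocalRing R] [Algebra (X.presheaf.stalk ((pullback.fst f h).base x')) R]
    [IsLocalHom (algebraMap (X.presheaf.stalk ((pullback.fst f h).base x')) R)]
    [Hensel.IsStrictHenselization (X.presheaf.stalk ((pullback.fst f h).base x')) R]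
    (R' : Type u) [CommRing R'] [IsLocalRing R'] [Algebra ((pullback f h).presheaf.stalk x') R']
    [IsLocalHom (algebraMap ((pullback f h).presheaf.stalk x') R')]
    [Hensel.IsStrictHenselization ((pullback f h).presheaf.stalk x') R']
    [Algebra R R'] (hRR' : (algebraMap R R').comp (algebraMap (X.presheaf.stalk ((pullback.fst f h).base x')) R) =
      (algebraMap ((pullback f h).presheaf.stalk x') R').comp ((pullback.fst f h).stalkMap x').hom)
    (hm : Spec.map (CommRingCat.ofHom (algebraMap R R')) ≫ Hens2.specOf X ((pullback.fst f h).base x') R =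
      Hens2.specOf (pullback f h) x' R' ≫ pullback.fst f h)
    (C : Type) [Group C] [Finite C] :
    letI m : Spec (CommRingCat.of R') ⟶ Spec (CommRingCat.of R) := Spec.map (CommRingCat.ofHom (algebraMap R R'))
    letI φb : Fin r → Γ(Spec (CommRingCat.of R), ⊤) := fun i => (Hens2.specOf X ((pullback.fst f h).base x') R).appTop (φ i)
    letI φb' : Fin r → Γ(Spec (CommRingCat.of R'), ⊤) := fun i =>
      (Hens2.specOf (pullback f h) x' R').appTop ((pullback.fst f h).appTop (φ i))
    ∀ (hle : SGA1t.compl φb' ≤ m ⁻¹ᵁ SGA1t.compl φb)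
      (P' : FEt.Cat (SGA1t.compl φb' : Scheme.{u})) (ρ' : C →* Aut P'), SGA1t.IsPrincipal C P' ρ' →
      SGA1t.IsRelTame (Hens2.specOf (pullback f h) x' R' ≫ pullback.snd f h) φb' P' →
      ∃ (P : FEt.Cat (SGA1t.compl φb : Scheme.{u})) (ρ : C →* Aut P), SGA1t.IsPrincipal C P ρ ∧
        SGA1t.IsRelTame (Hens2.specOf X ((pullback.fst f h).base x') R ≫ f) φb P ∧
        ∃ e : (FEt.restrict (m.resLE (SGA1t.compl φb) (SGA1t.compl φb') hle)).obj P ≅ P',
          ∀ g : C, (FEt.restrict (m.resLE (SGA1t.compl φb) (SGA1t.compl φb') hle)).map (ρ g).hom ≫ e.hom =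
            e.hom ≫ (ρ' g).hom := by
  intro hle P' ρ' hP' htame
  have hR : HenselianLocalRing R := Hensel.IsStrictHenselization.henselian (X.presheaf.stalk ((pullback.fst f h).base x'))
  have hRs : IsSepClosed (IsLocalRing.ResidueField R) :=
    (Hensel.IsStrictHenselization.isSepClosure (R := X.presheaf.stalk ((pullback.fst f h).base x')) (S := R)).1
  have hR' : HenselianLocalRing R' := Hensel.IsStrictHenselization.henselian ((pullback f h).presheaf.stalk x')
  have hRs' : IsSepClosed (IsLocalRing.ResidueField R') :=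
    (Hensel.IsStrictHenselization.isSepClosure (R := (pullback f h).presheaf.stalk x') (S := R')).1
  let e : SGA1t.vanishingAt (φ' f h φ) x' ≃ SGA1t.vanishingAt φ ((pullback.fst f h).base x') := vanEquiv (pullback.fst f h) φ x'
  have hD' := isRelSNC_baseChange f φ hD h
  by_cases hx : Nonempty (SGA1t.vanishingAt φ ((pullback.fst f h).base x'))
  · have hx' : Nonempty (SGA1t.vanishingAt (φ' f h φ) x') := hx.map e.symm
    obtain ⟨n', hn', hnu', hs'⟩ := exists_split (pullback.snd f h) (φ' f h φ) hD' x' R' hA hx' P' htame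
    let n : SGA1t.vanishingAt φ ((pullback.fst f h).base x') → ℕ := fun i => n' (e.symm i)
    have hn : ∀ i, 1 ≤ n i := fun i => hn' _
    have hnu : ∀ i, IsUnit ((n i : ℕ) : X.residueField ((pullback.fst f h).base x')) := fun i => by
      have h1 := hnu' (e.symm i)
      rw [isUnit_iff_ne_zero] at h1 ⊢
      intro h2
      apply h1
      have h3 := congrArg ((pullback.fst f h).residueFieldMap x').hom h2
      rw [map_natCast, map_zero] at h3
      exact h3
    have hnR : ∀ i, IsUnit ((n i : ℕ) : R) := fun i => isUnit_natCast _ R _ (hnu i)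
    have hF : IsFinite (str R (eqs φ ((pullback.fst f h).base x') R) n ∣_ cmpl φ ((pullback.fst f h).base x') R) :=
      isFinite_restrict (eqs φ ((pullback.fst f h).base x') R) n hn _
    have hE : Etale (str R (eqs φ ((pullback.fst f h).base x') R) n ∣_ cmpl φ ((pullback.fst f h).base x') R) :=
      Glue.etale_restrict φ ((pullback.fst f h).base x') R n hn hnu
    have hSu : Surjective (str R (eqs φ ((pullback.fst f h).base x') R) n ∣_ cmpl φ ((pullback.fst f h).base x') R) :=
      surjective_restrict (eqs φ ((pullback.fst f h).base x') R) n hn _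
    let K : FEt.Cat (cmpl φ ((pullback.fst f h).base x') R : Scheme.{u}) :=
      MorphismProperty.Over.mk ⊤
        (str R (eqs φ ((pullback.fst f h).base x') R) n ∣_ cmpl φ ((pullback.fst f h).base x') R) ⟨hF, hE⟩
    obtain ⟨hgal, θ, -⟩ := @hK X S f r φ hD ((pullback.fst f h).base x') hx R _ _ _ _ _ n hn hnu hF hE
    have hKc : ConnectedSpace K.left := hgal.1
    have hUc : ConnectedSpace ↥(cmpl φ ((pullback.fst f h).base x') R : Scheme.{u}) :=
      connected_target (str R (eqs φ ((pullback.fst f h).base x') R) n ∣_ cmpl φ ((pullback.fst f h).base x') R) hKc hSu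
    have hfin : Finite (Aut K) := Gal.finite_aut K
    have hG : Finite ((i : SGA1t.vanishingAt φ ((pullback.fst f h).base x')) → ↥(rootsOfUnity (n i) R)) :=
      @Finite.of_equiv _ _ hfin θ.symm.toEquiv
    have hprin := Gal.isPrincipal_of_isGaloisCover K hgal hSu.surj θ
    have hc : ConnectedSpace ↥(↑(str R' (eqs (φ' f h φ) x' R') n' ⁻¹ᵁ cmpl (φ' f h φ) x' R') : Scheme.{u}) :=
      connected (pullback.snd f h) (φ' f h φ) hD' x' R' hK hx' n' hn' hnu'
    obtain ⟨l, hl⟩ := isPullback_restrict (KumBC.isPullback (algebraMap R R') e (eqs φ ((pullback.fst f h).base x') R) n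
        (eqs (φ' f h φ) x' R') n' (fun j => fn_pullback f h x' R R' hRR' (φ j.1)) (fun j => by
          change n' j = n' (e.symm (e j)); rw [e.symm_apply_apply]))
        (cmpl φ ((pullback.fst f h).base x') R) (cmpl (φ' f h φ) x' R') hle
    obtain ⟨P, ρ, h1, h2, h3⟩ := of_cover _ K θ.toMonoidHom hprin _ l hl P' ρ' hP' hs'
    refine ⟨P, ρ, h1, ?_, h3⟩
    refine TameQuot.isRelTame_of_dominated _ _ P fun p => ?_
    obtain ⟨q, hq⟩ := h2 p
    refine ⟨K, q, hq, ?_⟩
    exact H390.KumSch.isRelTame (eqs φ ((pullback.fst f h).base x') R) n hn hnR _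
      (fun i => compl_specOf_le ((pullback.fst f h).base x') R φ i.1) _ hF hE
  · rw [not_nonempty_iff] at hx
    have hx' : IsEmpty (SGA1t.vanishingAt (φ' f h φ) x') := e.isEmpty
    have htop : cmpl (φ' f h φ) x' R' = ⊤ := Local.compl_eq_top x' R' (φ' f h φ) hx'
    have hc := connectedSpace_of_eq_top R' _ htop
    have hs' := ptSplit_of_isEmpty (φ' f h φ) x' R' hx' P'
    obtain ⟨P, ρ, h1, h2, h3⟩ := of_cover _ (triv (cmpl φ ((pullback.fst f h).base x') R : Scheme.{u})) 1
      (isPrincipal_triv _) (𝟙 _) _ (isPullback_triv _) P' ρ' hP' hs'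
    refine ⟨P, ρ, h1, ?_, h3⟩
    refine TameQuot.isRelTame_of_dominated _ _ P fun p => ?_
    obtain ⟨q, hq⟩ := h2 p
    exact ⟨_, q, hq, isRelTame_triv _ _⟩

end Groth.Agent.Pi1.H414.S3714_of
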